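import Mathlib
import Cfsg.Agent.Lib.ListFast
import Cfsg.Agent.H906.Cover_m3
import Cfsg.Agent.FastGrp
import Cfsg.Agent.Prune
set_option linter.all false

section
prune_inst 0x7f00000000000000000000000000000000000000000000000000000000000000000000000000000000000000000000000000000000000000000000000000000000000000000000000000000000000000003fffffffffffffffffffffffffffbeffbdffffffff

-- part: H890/K6Lines
section
set_option linter.all false
open scoped Cfsg.Agent.FastGrp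

/-!
# The 126 lines of the Mitchell group (helper890)

`F⁶`, `ω ∈ F` with `ω² + ω + 1 = 0`, `3 ≠ 0`: the lines spanned by `eᵢ - ωᵏ eⱼ` (45) and by `(ω^{a₀}, …, ω^{a₅})`,
`Σ aᵢ ≡ 0 mod 3` (81). A matrix over `ℤ[ω]` (up to a scalar) maps lines to lines as soon as a finite check succeeds.
-/

set_option autoImplicit false
set_option linter.unusedSectionVars false

namespace Cfsg.Agent.H890.K6

/-- Eisenstein integers `a + b ω` -/
abbrev E := ℤ × ℤ

def mE (x y : E) : E := (x.1 * y.1 - x.2 * y.2, x.1 * y.2 + x.2 * y.1 - x.2 * y.2)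

def nE (x : E) : ℤ := x.1 * x.1 - x.1 * x.2 + x.2 * x.2

def nz (x : E) : Bool := nE x == 1 || nE x == 3 || nE x == 9

/-- `ω ^ k` -/
def pwE (k : ℕ) : E := if k % 3 = 0 then (1, 0) else if k % 3 = 1 then (0, 1) else (-1, -1)

def negE (x : E) : E := (-x.1, -x.2)

def pairs : List (ℕ × ℕ) := [(0, 1), (0, 2), (0, 3), (0, 4), (0, 5), (1, 2), (1, 3), (1, 4), (1, 5), (2, 3), (2, 4),
  (2, 5), (3, 4), (3, 5), (4, 5)]

/-- the coordinates of the 126 lines -/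
def ln (n s : ℕ) : E :=
  if n < 45 then
    (if s = (pairs.getD (n / 3) (0, 0)).1 then (1, 0)
      else if s = (pairs.getD (n / 3) (0, 0)).2 then negE (pwE (n % 3)) else (0, 0))
  else
    (if s = 0 then (1, 0)
      else if s = 1 then pwE ((n - 45) % 3)
      else if s = 2 then pwE ((n - 45) / 3 % 3)
      else if s = 3 then pwE ((n - 45) / 9 % 3)
      else if s = 4 then pwE ((n - 45) / 27 % 3)
      else pwE (2 * ((n - 45) % 3 + (n - 45) / 3 % 3 + (n - 45) / 9 % 3 + (n - 45) / 27 % 3)))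

def addE (x y : E) : E := (x.1 + y.1, x.2 + y.2)

/-- row times vector -/
def dotE (M : ℕ → ℕ → E) (v : ℕ → E) (r : ℕ) : E :=
  addE (addE (addE (addE (addE (mE (M r 0) (v 0)) (mE (M r 1) (v 1))) (mE (M r 2) (v 2))) (mE (M r 3) (v 3)))
    (mE (M r 4) (v 4))) (mE (M r 5) (v 5))

def chk (M : ℕ → ℕ → E) (tab : List (E × ℕ)) : Bool :=
  (List.range 126).all fun n =>
    decide ((tab.getD n ((0, 0), 0)).2 < 126) && nz (tab.getD n ((0, 0), 0)).1 &&
      (List.range 6).all fun r => dotE M (ln n) r == mE (tab.getD n ((0, 0), 0)).1 (ln (tab.getD n ((0, 0), 0)).2 r)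

def ME_A (r s : ℕ) : E := if r = s then pwE (r / 2) else (0, 0)
def ME_B (r s : ℕ) : E := if r / 2 = (s / 2 + 1) % 3 ∧ r % 2 = s % 2 then (1, 0) else (0, 0)
def ME_K (r s : ℕ) : E :=
  if r / 2 = 0 ∨ s / 2 = 0 then (if r = s then (1, 0) else (0, 0))
  else if r / 2 = s / 2 then (if r % 2 = 0 ∧ s % 2 = 1 then (0, 1) else if r % 2 = 1 ∧ s % 2 = 0 then (-1, -1) else (0, 0))
  else (0, 0)
def ME_G (r s : ℕ) : E :=
  if r % 2 = 0 ∧ s % 2 = 1 then negE (pwE (2 * (r / 2) * (s / 2)))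
  else if r % 2 = 1 ∧ s % 2 = 0 then pwE (2 * (r / 2) * (s / 2)) else (0, 0)
def ME_D (r s : ℕ) : E := if r = s then (if r = 0 then (0, 1) else if r = 1 then (-1, -1) else (1, 0)) else (0, 0)

def tabA : List (E × ℕ) :=
  [((1, 0), 0), ((1, 0), 1), ((1, 0), 2), ((1, 0), 4), ((1, 0), 5), ((1, 0), 3), ((1, 0), 7), ((1, 0), 8),
   ((1, 0), 6), ((1, 0), 11), ((1, 0), 9), ((1, 0), 10), ((1, 0), 14), ((1, 0), 12), ((1, 0), 13), ((1, 0), 16),
   ((1, 0), 17), ((1, 0), 15), ((1, 0), 19), ((1, 0), 20), ((1, 0), 18), ((1, 0), 23), ((1, 0), 21), ((1, 0), 22),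
   ((1, 0), 26), ((1, 0), 24), ((1, 0), 25), ((0, 1), 27), ((0, 1), 28), ((0, 1), 29), ((0, 1), 31), ((0, 1), 32),
   ((0, 1), 30), ((0, 1), 34), ((0, 1), 35), ((0, 1), 33), ((0, 1), 37), ((0, 1), 38), ((0, 1), 36), ((0, 1), 40),
   ((0, 1), 41), ((0, 1), 39), ((-1, -1), 42), ((-1, -1), 43), ((-1, -1), 44), ((1, 0), 111), ((1, 0), 112),
   ((1, 0), 113), ((1, 0), 114), ((1, 0), 115), ((1, 0), 116), ((1, 0), 108), ((1, 0), 109), ((1, 0), 110),
   ((1, 0), 120), ((1, 0), 121), ((1, 0), 122), ((1, 0), 123), ((1, 0), 124), ((1, 0), 125), ((1, 0), 117),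
   ((1, 0), 118), ((1, 0), 119), ((1, 0), 102), ((1, 0), 103), ((1, 0), 104), ((1, 0), 105), ((1, 0), 106),
   ((1, 0), 107), ((1, 0), 99), ((1, 0), 100), ((1, 0), 101), ((1, 0), 57), ((1, 0), 58), ((1, 0), 59),
   ((1, 0), 60), ((1, 0), 61), ((1, 0), 62), ((1, 0), 54), ((1, 0), 55), ((1, 0), 56), ((1, 0), 66), ((1, 0), 67),
   ((1, 0), 68), ((1, 0), 69), ((1, 0), 70), ((1, 0), 71), ((1, 0), 63), ((1, 0), 64), ((1, 0), 65), ((1, 0), 48),
   ((1, 0), 49), ((1, 0), 50), ((1, 0), 51), ((1, 0), 52), ((1, 0), 53), ((1, 0), 45), ((1, 0), 46), ((1, 0), 47),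
   ((1, 0), 84), ((1, 0), 85), ((1, 0), 86), ((1, 0), 87), ((1, 0), 88), ((1, 0), 89), ((1, 0), 81), ((1, 0), 82),
   ((1, 0), 83), ((1, 0), 93), ((1, 0), 94), ((1, 0), 95), ((1, 0), 96), ((1, 0), 97), ((1, 0), 98), ((1, 0), 90),
   ((1, 0), 91), ((1, 0), 92), ((1, 0), 75), ((1, 0), 76), ((1, 0), 77), ((1, 0), 78), ((1, 0), 79), ((1, 0), 80),
   ((1, 0), 72), ((1, 0), 73), ((1, 0), 74)]

def tabB : List (E × ℕ) :=
  [((1, 0), 27), ((1, 0), 28), ((1, 0), 29), ((1, 0), 30), ((1, 0), 31), ((1, 0), 32), ((1, 0), 33), ((1, 0), 34),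
   ((1, 0), 35), ((-1, 0), 3), ((0, -1), 5), ((1, 1), 4), ((-1, 0), 15), ((0, -1), 17), ((1, 1), 16),
   ((1, 0), 36), ((1, 0), 37), ((1, 0), 38), ((1, 0), 39), ((1, 0), 40), ((1, 0), 41), ((-1, 0), 6), ((0, -1), 8),
   ((1, 1), 7), ((-1, 0), 18), ((0, -1), 20), ((1, 1), 19), ((1, 0), 42), ((1, 0), 43), ((1, 0), 44),
   ((-1, 0), 9), ((0, -1), 11), ((1, 1), 10), ((-1, 0), 21), ((0, -1), 23), ((1, 1), 22), ((-1, 0), 12),
   ((0, -1), 14), ((1, 1), 13), ((-1, 0), 24), ((0, -1), 26), ((1, 1), 25), ((1, 0), 0), ((1, 0), 1), ((1, 0), 2),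
   ((1, 0), 45), ((1, 0), 56), ((1, 0), 64), ((1, 0), 74), ((1, 0), 82), ((1, 0), 90), ((1, 0), 100),
   ((1, 0), 108), ((1, 0), 119), ((1, 0), 47), ((1, 0), 55), ((1, 0), 63), ((1, 0), 73), ((1, 0), 81),
   ((1, 0), 92), ((1, 0), 99), ((1, 0), 110), ((1, 0), 118), ((1, 0), 46), ((1, 0), 54), ((1, 0), 65),
   ((1, 0), 72), ((1, 0), 83), ((1, 0), 91), ((1, 0), 101), ((1, 0), 109), ((1, 0), 117), ((0, 1), 124),
   ((0, 1), 105), ((0, 1), 116), ((0, 1), 69), ((0, 1), 53), ((0, 1), 61), ((0, 1), 98), ((0, 1), 79),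
   ((0, 1), 87), ((0, 1), 123), ((0, 1), 107), ((0, 1), 115), ((0, 1), 71), ((0, 1), 52), ((0, 1), 60),
   ((0, 1), 97), ((0, 1), 78), ((0, 1), 89), ((0, 1), 125), ((0, 1), 106), ((0, 1), 114), ((0, 1), 70),
   ((0, 1), 51), ((0, 1), 62), ((0, 1), 96), ((0, 1), 80), ((0, 1), 88), ((-1, -1), 86), ((-1, -1), 94),
   ((-1, -1), 75), ((-1, -1), 112), ((-1, -1), 120), ((-1, -1), 104), ((-1, -1), 57), ((-1, -1), 68),
   ((-1, -1), 49), ((-1, -1), 85), ((-1, -1), 93), ((-1, -1), 77), ((-1, -1), 111), ((-1, -1), 122),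
   ((-1, -1), 103), ((-1, -1), 59), ((-1, -1), 67), ((-1, -1), 48), ((-1, -1), 84), ((-1, -1), 95),
   ((-1, -1), 76), ((-1, -1), 113), ((-1, -1), 121), ((-1, -1), 102), ((-1, -1), 58), ((-1, -1), 66),
   ((-1, -1), 50)]

def tabK : List (E × ℕ) :=
  [((1, 0), 0), ((1, 0), 1), ((1, 0), 2), ((1, 0), 8), ((1, 0), 6), ((1, 0), 7), ((1, 0), 4), ((1, 0), 5),
   ((1, 0), 3), ((1, 0), 14), ((1, 0), 12), ((1, 0), 13), ((1, 0), 10), ((1, 0), 11), ((1, 0), 9), ((1, 0), 20),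
   ((1, 0), 18), ((1, 0), 19), ((1, 0), 16), ((1, 0), 17), ((1, 0), 15), ((1, 0), 26), ((1, 0), 24), ((1, 0), 25),
   ((1, 0), 22), ((1, 0), 23), ((1, 0), 21), ((0, -1), 28), ((1, 1), 27), ((-1, 0), 29), ((-1, -1), 39),
   ((-1, -1), 40), ((-1, -1), 41), ((-1, -1), 38), ((-1, -1), 36), ((-1, -1), 37), ((0, 1), 34), ((0, 1), 35),
   ((0, 1), 33), ((0, 1), 30), ((0, 1), 31), ((0, 1), 32), ((0, -1), 43), ((1, 1), 42), ((-1, 0), 44),
   ((1, 0), 93), ((1, 0), 67), ((1, 0), 122), ((1, 0), 48), ((1, 0), 103), ((1, 0), 77), ((1, 0), 111),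
   ((1, 0), 85), ((1, 0), 59), ((1, 0), 69), ((1, 0), 124), ((1, 0), 98), ((1, 0), 105), ((1, 0), 79),
   ((1, 0), 53), ((1, 0), 87), ((1, 0), 61), ((1, 0), 116), ((1, 0), 117), ((1, 0), 91), ((1, 0), 65),
   ((1, 0), 72), ((1, 0), 46), ((1, 0), 101), ((1, 0), 54), ((1, 0), 109), ((1, 0), 83), ((1, 0), 66),
   ((1, 0), 121), ((1, 0), 95), ((1, 0), 102), ((1, 0), 76), ((1, 0), 50), ((1, 0), 84), ((1, 0), 58),
   ((1, 0), 113), ((1, 0), 123), ((1, 0), 97), ((1, 0), 71), ((1, 0), 78), ((1, 0), 52), ((1, 0), 107),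
   ((1, 0), 60), ((1, 0), 115), ((1, 0), 89), ((1, 0), 90), ((1, 0), 64), ((1, 0), 119), ((1, 0), 45),
   ((1, 0), 100), ((1, 0), 74), ((1, 0), 108), ((1, 0), 82), ((1, 0), 56), ((1, 0), 120), ((1, 0), 94),
   ((1, 0), 68), ((1, 0), 75), ((1, 0), 49), ((1, 0), 104), ((1, 0), 57), ((1, 0), 112), ((1, 0), 86),
   ((1, 0), 96), ((1, 0), 70), ((1, 0), 125), ((1, 0), 51), ((1, 0), 106), ((1, 0), 80), ((1, 0), 114),
   ((1, 0), 88), ((1, 0), 62), ((1, 0), 63), ((1, 0), 118), ((1, 0), 92), ((1, 0), 99), ((1, 0), 73),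
   ((1, 0), 47), ((1, 0), 81), ((1, 0), 55), ((1, 0), 110)]

def tabG : List (E × ℕ) :=
  [((1, 0), 45), ((0, 1), 65), ((-1, -1), 55), ((2, 1), 40), ((1, -1), 26), ((2, 1), 19), ((1, 0), 78),
   ((0, 1), 98), ((-1, -1), 88), ((1, -1), 41), ((1, -1), 20), ((2, 1), 25), ((1, 0), 102), ((0, 1), 122),
   ((-1, -1), 112), ((-1, 0), 63), ((-1, 0), 46), ((-1, 0), 56), ((-2, -1), 31), ((-1, 1), 11), ((-2, -1), 4),
   ((-1, 0), 54), ((-1, 0), 64), ((-1, 0), 47), ((-1, 1), 32), ((-1, 1), 5), ((-2, -1), 10), ((1, 0), 96),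
   ((0, 1), 89), ((-1, -1), 79), ((-1, -2), 39), ((1, -1), 24), ((2, 1), 18), ((1, 0), 120), ((0, 1), 113),
   ((-1, -1), 103), ((-1, 0), 87), ((-1, 0), 97), ((-1, 0), 80), ((1, 2), 30), ((-1, 1), 9), ((-2, -1), 3),
   ((1, 0), 111), ((0, 1), 104), ((-1, -1), 121), ((-3, 0), 0), ((3, 0), 22), ((3, 0), 17), ((-1, 1), 92),
   ((-1, -2), 58), ((-1, 1), 125), ((-2, -1), 70), ((-2, -1), 94), ((1, 2), 101), ((3, 0), 15), ((0, -3), 2),
   ((3, 0), 23), ((-1, -2), 115), ((-1, -2), 82), ((2, 1), 48), ((-2, -1), 118), ((1, -1), 60), ((1, -1), 84),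
   ((3, 0), 21), ((3, 0), 16), ((3, 3), 1), ((-1, 1), 68), ((2, 1), 105), ((2, 1), 72), ((1, 2), 77),
   ((1, -1), 108), ((1, 2), 53), ((-1, 1), 83), ((-1, -2), 49), ((-1, 1), 116), ((-2, -1), 62), ((-2, -1), 86),
   ((1, 2), 117), ((-3, 0), 12), ((0, -3), 44), ((3, 3), 34), ((-1, -2), 106), ((-1, -2), 73), ((2, 1), 66),
   ((-2, -1), 110), ((1, -1), 52), ((1, -1), 76), ((-3, 0), 33), ((0, -3), 14), ((3, 3), 43), ((-1, 1), 59),
   ((2, 1), 123), ((2, 1), 90), ((1, 2), 93), ((1, -1), 100), ((1, 2), 69), ((-3, 0), 42), ((0, -3), 35),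
   ((3, 3), 13), ((-2, -1), 61), ((-2, -1), 85), ((1, 2), 119), ((-3, 0), 6), ((3, 0), 37), ((3, 3), 28),
   ((-1, 1), 91), ((-1, -2), 57), ((-1, 1), 124), ((-2, -1), 109), ((1, -1), 51), ((1, -1), 75), ((-3, 0), 27),
   ((0, -3), 8), ((3, 0), 38), ((-1, -2), 114), ((-1, -2), 81), ((2, 1), 50), ((1, 2), 95), ((1, -1), 99),
   ((1, 2), 71), ((3, 0), 36), ((0, -3), 29), ((3, 3), 7), ((-1, 1), 67), ((2, 1), 107), ((2, 1), 74)]

def tabD : List (E × ℕ) :=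
  [((0, 1), 1), ((0, 1), 2), ((0, 1), 0), ((0, 1), 5), ((0, 1), 3), ((0, 1), 4), ((0, 1), 8), ((0, 1), 6),
   ((0, 1), 7), ((0, 1), 11), ((0, 1), 9), ((0, 1), 10), ((0, 1), 14), ((0, 1), 12), ((0, 1), 13), ((-1, -1), 16),
   ((-1, -1), 17), ((-1, -1), 15), ((-1, -1), 19), ((-1, -1), 20), ((-1, -1), 18), ((-1, -1), 22), ((-1, -1), 23),
   ((-1, -1), 21), ((-1, -1), 25), ((-1, -1), 26), ((-1, -1), 24), ((1, 0), 27), ((1, 0), 28), ((1, 0), 29),
   ((1, 0), 30), ((1, 0), 31), ((1, 0), 32), ((1, 0), 33), ((1, 0), 34), ((1, 0), 35), ((1, 0), 36), ((1, 0), 37),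
   ((1, 0), 38), ((1, 0), 39), ((1, 0), 40), ((1, 0), 41), ((1, 0), 42), ((1, 0), 43), ((1, 0), 44),
   ((0, 1), 124), ((0, 1), 125), ((0, 1), 123), ((0, 1), 118), ((0, 1), 119), ((0, 1), 117), ((0, 1), 121),
   ((0, 1), 122), ((0, 1), 120), ((0, 1), 106), ((0, 1), 107), ((0, 1), 105), ((0, 1), 100), ((0, 1), 101),
   ((0, 1), 99), ((0, 1), 103), ((0, 1), 104), ((0, 1), 102), ((0, 1), 115), ((0, 1), 116), ((0, 1), 114),
   ((0, 1), 109), ((0, 1), 110), ((0, 1), 108), ((0, 1), 112), ((0, 1), 113), ((0, 1), 111), ((0, 1), 70),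
   ((0, 1), 71), ((0, 1), 69), ((0, 1), 64), ((0, 1), 65), ((0, 1), 63), ((0, 1), 67), ((0, 1), 68), ((0, 1), 66),
   ((0, 1), 52), ((0, 1), 53), ((0, 1), 51), ((0, 1), 46), ((0, 1), 47), ((0, 1), 45), ((0, 1), 49), ((0, 1), 50),
   ((0, 1), 48), ((0, 1), 61), ((0, 1), 62), ((0, 1), 60), ((0, 1), 55), ((0, 1), 56), ((0, 1), 54), ((0, 1), 58),
   ((0, 1), 59), ((0, 1), 57), ((0, 1), 97), ((0, 1), 98), ((0, 1), 96), ((0, 1), 91), ((0, 1), 92), ((0, 1), 90),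
   ((0, 1), 94), ((0, 1), 95), ((0, 1), 93), ((0, 1), 79), ((0, 1), 80), ((0, 1), 78), ((0, 1), 73), ((0, 1), 74),
   ((0, 1), 72), ((0, 1), 76), ((0, 1), 77), ((0, 1), 75), ((0, 1), 88), ((0, 1), 89), ((0, 1), 87), ((0, 1), 82),
   ((0, 1), 83), ((0, 1), 81), ((0, 1), 85), ((0, 1), 86), ((0, 1), 84)]

private noncomputable def fi_h86 (a : ℤ) (k : ℤ → E) : E :=
  @Int.rec (fun _ => E) (fun n => k (Int.ofNat n)) (fun n => k (Int.negSucc n)) a

/-- the product on evaluated arguments -/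
private noncomputable def mz_h86 (x y : E) : E :=
  fi_h86 x.1 fun a => fi_h86 x.2 fun b => fi_h86 y.1 fun c => fi_h86 y.2 fun d => mE (a, b) (c, d)

private theorem mz_eq_h86 : mE = mz_h86 := by
  have h : ∀ a k, fi_h86 a k = k a := fun a k => by cases a <;> rfl
  funext x y
  simp only [mz_h86, h]

private noncomputable def ad_h86 (x y s : E) : E :=
  @Bool.rec (fun _ => E) (LsF.iadd s.1 (mz_h86 x y).1, LsF.iadd s.2 (mz_h86 x y).2) s (decide (x = (0, 0)))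

private theorem ad_eq_h86 (x y s : E) : ad_h86 x y s = addE s (mE x y) := by
  unfold ad_h86
  cases h : decide (x = (0, 0)) with
  | false => rw [← mz_eq_h86, ← LsF.iadd_eq]; rfl
  | true =>
    rw [of_decide_eq_true h]
    exact Prod.ext (by simp only [addE, mE, zero_mul, sub_zero, add_zero]) (by simp only [addE, mE, zero_mul, sub_zero, add_zero])

private noncomputable def dz_h86 (M : ℕ → ℕ → E) (v : ℕ → E) (r : ℕ) : E :=
  ad_h86 (M r 5) (v 5) (ad_h86 (M r 4) (v 4) (ad_h86 (M r 3) (v 3) (ad_h86 (M r 2) (v 2) (ad_h86 (M r 1) (v 1)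
    (ad_h86 (M r 0) (v 0) (0, 0))))))

private theorem dz_eq_h86 : dotE = dz_h86 := by
  funext M v r
  simp only [dz_h86, ad_eq_h86, dotE]
  rw [show addE (0, 0) (mE (M r 0) (v 0)) = mE (M r 0) (v 0) from Prod.ext (zero_add _) (zero_add _)]

private noncomputable def pw_h86 : {f // pwE = f} :=
  ⟨_, by delta pwE; rewrite [LsF.ite_eq, LsF.instDecEq_eq, LsF.nmod_pat]; exact rfl⟩

private noncomputable def ln_h86 : {f // ln = f} :=
  ⟨_, by
    delta ln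
    rewrite [pw_h86.2, LsF.ite_eq, LsF.instDecEq_eq, LsF.decLt_eq, LsF.getD_eq, LsF.nmod_pat, LsF.ndiv_pat, LsF.nsub_pat,
      LsF.nadd_pat, LsF.nmul_pat]
    exact rfl⟩

private noncomputable def ck_h86 : {f // chk = f} :=
  ⟨_, by
    delta chk nz
    rewrite [dz_eq_h86, mz_eq_h86, ln_h86.2, LsF.getD_eq, LsF.all_eq, LsF.range_eq, LsF.and_eq, LsF.or_eq, LsF.instPBEq_eq,
      LsF.ibeq_pat, LsF.instIBEq_pat, LsF.decLt_eq, LsF.decide_eq]
    exact rfl⟩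

theorem chk_A : chk ME_A tabA = true := by rewrite [ck_h86.2]; decide +kernel
theorem chk_B : chk ME_B tabB = true := by rewrite [ck_h86.2]; decide +kernel
theorem chk_K : chk ME_K tabK = true := by rewrite [ck_h86.2]; decide +kernel
theorem chk_G : chk ME_G tabG = true := by rewrite [ck_h86.2]; decide +kernel
theorem chk_D : chk ME_D tabD = true := by rewrite [ck_h86.2]; decide +kernel

theorem units_ln : ((List.range 126).all fun n => (List.range 6).all fun s => ln n s == (0, 0) || nE (ln n s) == 1) = true := by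
  rewrite [ln_h86.2]; decide +kernel

theorem no_ln : ((List.range 126).all fun n =>
    !(ln n 0 != (0, 0) && ln n 1 != (0, 0) && ln n 2 != (0, 0) && ln n 4 == (0, 0))) = true := by
  rewrite [ln_h86.2]; decide +kernel

section eval

variable {F : Type*} [Field F] {ω : F}

/-- evaluation at `ω` -/
def ev (ω : F) (x : E) : F := (x.1 : F) + (x.2 : F) * ω

theorem ev_add (x y : E) : ev ω (addE x y) = ev ω x + ev ω y := by
  simp only [ev, addE]; push_cast; ring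

theorem ev_zero : ev ω (0, 0) = 0 := by simp [ev]

theorem ev_mul (hω : ω ^ 2 + ω + 1 = 0) (x y : E) : ev ω (mE x y) = ev ω x * ev ω y := by
  simp only [ev, mE]; push_cast
  linear_combination (-(x.2 : F) * (y.2 : F)) * hω

theorem ev_norm (hω : ω ^ 2 + ω + 1 = 0) (x : E) : ev ω x * ev ω (x.1 - x.2, -x.2) = (nE x : F) := by
  simp only [ev, nE]; push_cast
  linear_combination (-(x.2 : F) * (x.2 : F)) * hω

theorem ev_ne_zero (hω : ω ^ 2 + ω + 1 = 0) (h3 : (3 : F) ≠ 0) {x : E} (h : nz x = true) : ev ω x ≠ 0 := by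
  have h1 : nE x = 1 ∨ nE x = 3 ∨ nE x = 9 := by
    simpa [nz, or_assoc] using h
  intro h0
  have h2 := ev_norm hω x
  rw [h0, zero_mul] at h2
  rcases h1 with h1 | h1 | h1 <;> rw [h1] at h2 <;> push_cast at h2
  · exact zero_ne_one h2
  · exact h3 h2.symm
  · apply h3
    have h4 : (3 : F) * 3 = 0 := by rw [h2]; norm_num
    rcases mul_eq_zero.1 h4 with h | h <;> exact h

/-- `v` spans one of the 126 lines -/
def IsLine (ω : F) (v : Fin 6 → F) : Prop := ∃ n < 126, ∃ c : F, c ≠ 0 ∧ ∀ s : Fin 6, v s = c * ev ω (ln n s)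

theorem ev_dot (hω : ω ^ 2 + ω + 1 = 0) (M : ℕ → ℕ → E) (v : ℕ → E) (r : ℕ) :
    ev ω (dotE M v r) = ∑ s : Fin 6, ev ω (M r s) * ev ω (v s) := by
  rw [Fin.sum_univ_six]
  simp only [dotE, ev_add, ev_mul hω]
  rfl

theorem isLine_mulVec (hω : ω ^ 2 + ω + 1 = 0) (h3 : (3 : F) ≠ 0) {M : ℕ → ℕ → E} {tab : List (E × ℕ)}
    (h : chk M tab = true) {g : Matrix (Fin 6) (Fin 6) F} {θ : F} (hθ : θ ≠ 0)
    (hg : ∀ r s : Fin 6, θ * g r s = ev ω (M r s)) {v : Fin 6 → F} (hv : IsLine ω v) : IsLine ω (g.mulVec v) := by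
  obtain ⟨n, hn, c, hc, hv⟩ := hv
  have h1 := List.all_eq_true.1 h n (List.mem_range.2 hn)
  simp only [Bool.and_eq_true, decide_eq_true_eq, List.all_eq_true, List.mem_range, beq_iff_eq] at h1
  obtain ⟨⟨h2, h4⟩, h5⟩ := h1
  refine ⟨_, h2, θ⁻¹ * (c * ev ω (tab.getD n ((0, 0), 0)).1), mul_ne_zero (inv_ne_zero hθ)
    (mul_ne_zero hc (ev_ne_zero hω h3 h4)), fun s => ?_⟩
  have h6 := congrArg (ev ω) (h5 s s.2)
  rw [ev_dot hω, ev_mul hω] at h6
  rw [mul_assoc, mul_assoc, ← h6, Matrix.mulVec, dotProduct, eq_inv_mul_iff_mul_eq₀ hθ, Finset.mul_sum, Finset.mul_sum]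
  apply Finset.sum_congr rfl
  intro x _
  rw [← hg, hv]
  ring

end eval

end Cfsg.Agent.H890.K6

private theorem dce_327028723c7b : _root_.True := by
  try have : _root_.True := by simp only [_root_.Cfsg.Agent.H890.K6.addE.eq_1]
  try have : _root_.True := by simp only [_root_.Cfsg.Agent.H890.K6.dotE.eq_1]
  try have : _root_.True := by simp only [_root_.Cfsg.Agent.H890.K6.nz.eq_1]
  try have : _root_.True := by simp only [_root_.Cfsg.Agent.H890.K6.ev.eq_1]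
  try have : _root_.True := by simp only [_root_.Cfsg.Agent.H890.K6.mE.eq_1]
  try have : _root_.True := by simp only [_root_.Cfsg.Agent.H890.K6.nE.eq_1]
  exact _root_.True.intro
end

-- part: H913/N6Cov
section
set_option linter.all false
open scoped Cfsg.Agent.FastGrp

/-!
# Lifting relations from the socle to the core (helper913)

`Cov P T` : a surjection `π : P → T` whose kernel is the set of scalars in `P ≤ GL(ι, F)`;
`C.L x σ` : `x ∈ P` is a lift of `σ`.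
-/

set_option autoImplicit false
set_option linter.unusedSectionVars false

namespace Cfsg.Agent.H913.N6

open Cfsg Cfsg.Geo Matrix
open Cfsg.Agent.H915.LD (Core Soc toSoc tr)

variable {ι : Type} [Fintype ι] [DecidableEq ι] {F : Type*} [Field F] {P H : Subgroup (GL ι F)}

/-- the scalar matrix `c` -/
def sc (c : Fˣ) : GL ι F := Units.map (Matrix.scalar ι : F →+* Matrix ι ι F).toMonoidHom c

theorem coe_sc (c : Fˣ) : ((sc c : GL ι F) : Matrix ι ι F) = (c : F) • (1 : Matrix ι ι F) := by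
  simp [sc, Matrix.smul_one_eq_diagonal]

theorem sc_mul (c d : Fˣ) : (sc (c * d) : GL ι F) = sc c * sc d := by simp [sc]

@[simp] theorem sc_one : (sc 1 : GL ι F) = 1 := by simp [sc]

theorem sc_pow (c : Fˣ) (n : ℕ) : (sc (c ^ n) : GL ι F) = sc c ^ n := by simp [sc]

theorem sc_inv (c : Fˣ) : (sc c⁻¹ : GL ι F) = (sc c)⁻¹ := by simp [sc]

theorem sc_comm (c : Fˣ) (x : GL ι F) : sc c * x = x * sc c := by
  apply Units.ext
  rw [Units.val_mul, Units.val_mul, coe_sc, Matrix.smul_mul, Matrix.mul_smul, Matrix.one_mul, Matrix.mul_one]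

theorem sc_inj [Nonempty ι] {c d : Fˣ} (h : (sc c : GL ι F) = sc d) : c = d := by
  have h1 := congrArg (fun g : GL ι F => (g : Matrix ι ι F)) h
  simp only [coe_sc] at h1
  have i : ι := Classical.arbitrary ι
  have h2 := congrFun (congrFun h1 i) i
  simpa [Matrix.smul_apply, Units.ext_iff] using h2

theorem mem_scalars {g : GL ι F} : g ∈ scalars ι F ↔ ∃ c, g = sc c := by
  rw [mem_scalars_iff]
  constructor
  · rintro ⟨c, h⟩; exact ⟨c, Units.ext (by rw [coe_sc, h])⟩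
  · rintro ⟨c, rfl⟩; exact ⟨c, coe_sc c⟩

theorem sc_mem_scalars (c : Fˣ) : (sc c : GL ι F) ∈ scalars ι F := mem_scalars.2 ⟨c, rfl⟩

/-- a surjection of `P` onto `T` with the scalars as kernel -/
structure Cov (P : Subgroup (GL ι F)) (T : Type*) [Group T] where
  π : P →* T
  surj : Function.Surjective π
  ker : ∀ x : P, π x = 1 ↔ (x : GL ι F) ∈ scalars ι F

/-- the cover of a core -/
def Cov.of {T : Type*} [Group T] (e : Soc P ≃* T) : Cov P T where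
  π := e.toMonoidHom.comp (toSoc P)
  surj := fun t => by
    obtain ⟨x, hx⟩ := H915.LD.toSoc_surjective P (e.symm t)
    exact ⟨x, by simp [hx]⟩
  ker := fun x => by
    have h := H915.LD.ker_toSoc P
    rw [MonoidHom.comp_apply]
    have h2 : toSoc P x = 1 ↔ x ∈ (scalars ι F).subgroupOf P := by
      rw [← MonoidHom.mem_ker, h]
    rw [show e.toMonoidHom (toSoc P x) = e (toSoc P x) from rfl, map_eq_one_iff e e.injective, h2,
      Subgroup.mem_subgroupOf]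

namespace Cov

variable {T : Type*} [Group T] (C : Cov P T)

/-- `x` is a lift of `σ` -/
def L (x : GL ι F) (σ : T) : Prop := ∃ h : x ∈ P, C.π ⟨x, h⟩ = σ

variable {C}

theorem L.mem {x : GL ι F} {σ : T} (h : C.L x σ) : x ∈ P := h.1

theorem exists_lift (C : Cov P T) (σ : T) : ∃ x, C.L x σ := by
  obtain ⟨x, hx⟩ := C.surj σ
  exact ⟨x, x.2, by rw [← hx]⟩

theorem L.of_mem (C : Cov P T) {x : GL ι F} (h : x ∈ P) : ∃ σ, C.L x σ := ⟨_, h, rfl⟩

theorem L.one : C.L (1 : GL ι F) 1 := ⟨one_mem P, by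
  have : (⟨1, one_mem P⟩ : P) = 1 := rfl
  rw [this, map_one]⟩

theorem L.mul {x y : GL ι F} {σ τ : T} (h : C.L x σ) (h' : C.L y τ) : C.L (x * y) (σ * τ) := by
  obtain ⟨hx, rfl⟩ := h
  obtain ⟨hy, rfl⟩ := h'
  exact ⟨mul_mem hx hy, by rw [← map_mul]; rfl⟩

theorem L.inv {x : GL ι F} {σ : T} (h : C.L x σ) : C.L x⁻¹ σ⁻¹ := by
  obtain ⟨hx, rfl⟩ := h
  exact ⟨inv_mem hx, by rw [← map_inv]; rfl⟩

theorem L.pow {x : GL ι F} {σ : T} (h : C.L x σ) (n : ℕ) : C.L (x ^ n) (σ ^ n) := by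
  induction n with
  | zero => simpa using (L.one : C.L 1 1)
  | succ n ih => rw [pow_succ, pow_succ]; exact ih.mul h

theorem L.conj {x g : GL ι F} {σ γ : T} (h : C.L x σ) (h' : C.L g γ) : C.L (g * x * g⁻¹) (γ * σ * γ⁻¹) :=
  (h'.mul h).mul h'.inv

theorem L.unique {x : GL ι F} {σ τ : T} (h : C.L x σ) (h' : C.L x τ) : σ = τ := by
  obtain ⟨hx, rfl⟩ := h
  obtain ⟨_, rfl⟩ := h'
  rfl

theorem L.one_iff {x : GL ι F} : C.L x 1 ↔ x ∈ P ∧ ∃ c, x = sc c := by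
  constructor
  · rintro ⟨h, h1⟩
    exact ⟨h, mem_scalars.1 ((C.ker _).1 h1)⟩
  · rintro ⟨h, c, hc⟩
    exact ⟨h, (C.ker _).2 (mem_scalars.2 ⟨c, hc⟩)⟩

theorem L.of_sc {c : Fˣ} (h : sc c ∈ P) : C.L (sc c) 1 := L.one_iff.2 ⟨h, c, rfl⟩

/-- two lifts differ by a scalar in `P` -/
theorem L.exists_sc {x y : GL ι F} {σ : T} (h : C.L x σ) (h' : C.L y σ) : ∃ c, sc c ∈ P ∧ x = sc c * y := by
  have h1 : C.L (x * y⁻¹) 1 := by
    have := h.mul h'.inv
    rwa [mul_inv_cancel] at this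
  obtain ⟨hm, c, hc⟩ := L.one_iff.1 h1
  refine ⟨c, hc ▸ hm, ?_⟩
  rw [← hc, inv_mul_cancel_right]

theorem L.sc_mul {x : GL ι F} {σ : T} (h : C.L x σ) {c : Fˣ} (hc : sc c ∈ P) : C.L (sc c * x) σ := by
  have := (L.of_sc (C := C) hc).mul h
  rwa [one_mul] at this

/-- the action of an element normalising `P` -/
theorem exists_aut (C : Cov P T) {h : GL ι F} (h1 : ∀ x ∈ P, h * x * h⁻¹ ∈ P) (h2 : ∀ x ∈ P, h⁻¹ * x * h ∈ P) :
    ∃ φ : MulAut T, ∀ x σ, C.L x σ → C.L (h * x * h⁻¹) (φ σ) := by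
  classical
  choose l hl using C.exists_lift
  have hsc : ∀ c : Fˣ, h * sc c * h⁻¹ = sc c := fun c => by rw [← sc_comm, mul_assoc, mul_inv_cancel, mul_one]
  let f : T → T := fun σ => C.π ⟨h * l σ * h⁻¹, h1 _ (hl σ).mem⟩
  have hf : ∀ x σ, C.L x σ → C.L (h * x * h⁻¹) (f σ) := by
    intro x σ hx
    obtain ⟨c, hc, rfl⟩ := hx.exists_sc (hl σ)
    have e : h * (sc c * l σ) * h⁻¹ = sc c * (h * l σ * h⁻¹) := by
      rw [← mul_assoc, ← sc_comm c h]; group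
    rw [e]
    exact L.sc_mul ⟨h1 _ (hl σ).mem, rfl⟩ hc
  have hmul : ∀ σ τ, f (σ * τ) = f σ * f τ := by
    intro σ τ
    have e1 := hf _ _ ((hl σ).mul (hl τ))
    have e2 := (hf _ _ (hl σ)).mul (hf _ _ (hl τ))
    have e3 : h * (l σ * l τ) * h⁻¹ = h * l σ * h⁻¹ * (h * l τ * h⁻¹) := by group
    rw [e3] at e1
    exact e1.unique e2
  let φ : T →* T := MonoidHom.mk' f hmul
  have hinj : Function.Injective φ := by
    rw [injective_iff_map_eq_one]
    intro σ hσ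
    have e1 := hf _ _ (hl σ)
    rw [show f σ = 1 from hσ, L.one_iff] at e1
    obtain ⟨_, c, hc⟩ := e1
    have e2 : l σ = sc c := by
      have : l σ = h⁻¹ * (h * l σ * h⁻¹) * h := by group
      rw [this, hc, mul_assoc, sc_comm, ← mul_assoc, inv_mul_cancel, one_mul]
    have e3 : C.L (l σ) 1 := L.one_iff.2 ⟨(hl σ).mem, c, e2⟩
    exact (hl σ).unique e3
  have hsurj : Function.Surjective φ := by
    intro τ
    obtain ⟨σ, hσ⟩ := L.of_mem C (h2 _ (hl τ).mem)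
    refine ⟨σ, ?_⟩
    have e1 := hf _ _ hσ
    have e2 : h * (h⁻¹ * l τ * h) * h⁻¹ = l τ := by group
    rw [e2] at e1
    exact e1.unique (hl τ)
  exact ⟨MulEquiv.ofBijective φ ⟨hinj, hsurj⟩, fun x σ hx => hf x σ hx⟩

/-- an element acting as an inner automorphism is a scalar times an element of `P` -/
theorem mem_of_inner {h : GL ι F}
    (hcs : ∀ g ∈ P, (∀ x ∈ P, (g⁻¹ * h) * x * (g⁻¹ * h)⁻¹ * x⁻¹ ∈ scalars ι F) → g⁻¹ * h ∈ scalars ι F)
    {φ : MulAut T} (hφ : ∀ x σ, C.L x σ → C.L (h * x * h⁻¹) (φ σ)) {γ : T} (hγ : ∀ σ, φ σ = γ * σ * γ⁻¹) :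
    ∃ g c, C.L g γ ∧ h = g * sc c := by
  obtain ⟨g, hg⟩ := C.exists_lift γ
  have h1 : g⁻¹ * h ∈ scalars ι F := by
    refine hcs g hg.mem fun x hx => ?_
    obtain ⟨σ, hσ⟩ := L.of_mem C hx
    have h2 : C.L ((g⁻¹ * h) * x * (g⁻¹ * h)⁻¹ * x⁻¹) 1 := by
      have h3 := (((hφ _ _ hσ).conj hg.inv)).mul hσ.inv
      have e1 : γ⁻¹ * φ σ * γ⁻¹⁻¹ * σ⁻¹ = 1 := by rw [hγ]; group
      rw [e1] at h3
      have e2 : g⁻¹ * (h * x * h⁻¹) * g⁻¹⁻¹ * x⁻¹ = (g⁻¹ * h) * x * (g⁻¹ * h)⁻¹ * x⁻¹ := by group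
      rwa [e2] at h3
    obtain ⟨_, c, hc⟩ := L.one_iff.1 h2
    exact mem_scalars.2 ⟨c, hc⟩
  obtain ⟨c, hc⟩ := mem_scalars.1 h1
  exact ⟨g, c, hg, by rw [← hc]; group⟩

end Cov

/-- Transfer -/
theorem pow_index_mem {Γ : Type*} [Group Γ] [Finite Γ] (hL : commutator Γ = ⊤) (S : Subgroup Γ)
    (hS : ∀ x ∈ S, ∀ y ∈ S, x * y = y * x) {z : Γ} (_hzS : z ∈ S) (hz : ∀ x, z * x = x * z) : z ^ S.index = 1 := by
  classical
  let _ : CommGroup S := { (inferInstance : Group S) with mul_comm := fun a b => Subtype.ext (hS a a.2 b b.2) }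
  let f : Γ →* S := MonoidHom.transfer (MonoidHom.id S)
  have h1 : ∀ g, f g = 1 := by
    intro g
    have h2 : commutator Γ ≤ f.ker := Abelianization.commutator_subset_ker f
    rw [hL] at h2
    exact h2 (Subgroup.mem_top g)
  have h3 := MonoidHom.transfer_eq_pow (MonoidHom.id S) z (by
    intro k g _
    rw [mul_assoc, (show Commute (z ^ k) g from (show Commute z g from hz g).pow_left k).eq, ← mul_assoc,
      inv_mul_cancel, one_mul])
  have h4 := h1 z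
  change MonoidHom.transfer (MonoidHom.id S) z = 1 at h4
  rw [h3] at h4
  exact congrArg Subtype.val h4

end Cfsg.Agent.H913.N6

private theorem dce_c41f2fb1350b : _root_.True := by
  try have : _root_.True := by simp only [_root_.Cfsg.Agent.H913.N6.sc.eq_1]
  exact _root_.True.intro
end
end
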