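import Cfsg.Agent.H890.SpParity
set_option linter.all false

/-!
S5712 (helper890): in characteristic two over a perfect field, a nondegenerate quadratic form of
dimension at least four with a singular vector: `E Q` is transitive on the vectors of norm one, has
index two in `O Q` and consists of the isometries of even rank.
-/

set_option autoImplicit false

namespace Cfsg.Agent.H890.SpParity

open QuadraticMap Cfsg.Agent.LieClassical.OrthCore Module

variable {F V : Type*} [Field F] [AddCommGroup V] [Module F V] {Q : QuadraticForm F V}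

theorem siegel_apply_two (h2 : (2 : F) = 0) {u w : V} (hu : Q u = 0) (hw : polar Q u w = 0) (v : V) :
    siegel Q u w hu hw v = v + polar Q u v • w + polar Q w v • u + (Q w * polar Q u v) • u := by
  have e : ∀ x : F, -x = x := fun x => by linear_combination (-x) * h2
  rw [siegel_apply, sub_eq_add_neg, sub_eq_add_neg, ← neg_smul, ← neg_smul, e, e]

/-- Hypotheses: characteristic two, perfect, a hyperbolic pair and something more. -/
structure Hyp2 (Q : QuadraticForm F V) (a b : V) : Prop where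
  two : (2 : F) = 0
  sq : ∀ x : F, ∃ y, y ^ 2 = x
  nd : Nondeg Q
  ha : Q a = 0
  hb : Q b = 0
  hab : polar Q a b = 1
  more : ∃ w, w ≠ 0 ∧ polar Q a w = 0 ∧ polar Q b w = 0

namespace Hyp2

variable {a b : V} (h : Hyp2 Q a b)

include h

theorem hba : polar Q b a = 1 := by rw [polar_comm, h.hab]

theorem dbl (x : F) : x + x = 0 := by linear_combination x * h.two

theorem vdbl (x : V) : x + x = 0 := by
  rw [← two_smul F, h.two, zero_smul]

theorem haa : polar Q a a = 0 := polar_self_of_sing h.ha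

theorem hbb : polar Q b b = 0 := polar_self_of_sing h.hb

/-- decomposition -/
theorem decomp (v : V) : ∃ x, polar Q a x = 0 ∧ polar Q b x = 0 ∧
    v = polar Q b v • a + polar Q a v • b + x := by
  refine ⟨v - polar Q b v • a - polar Q a v • b, ?_, ?_, by abel⟩
  · rw [polar_sub_right, polar_sub_right, polar_smul_right, polar_smul_right, h.haa, h.hab,
      smul_zero, smul_eq_mul]
    ring
  · rw [polar_sub_right, polar_sub_right, polar_smul_right, polar_smul_right, h.hbb, h.hba,
      smul_zero, smul_eq_mul]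
    ring

/-- nondegeneracy of the orthogonal space of `a, b` -/
theorem exists_ne {x : V} (hx : x ≠ 0) (hax : polar Q a x = 0) (hbx : polar Q b x = 0) :
    ∃ w, polar Q a w = 0 ∧ polar Q b w = 0 ∧ polar Q w x ≠ 0 := by
  obtain ⟨y, hy⟩ := h.nd.exists_polar_ne hx
  obtain ⟨w, hw1, hw2, hyw⟩ := h.decomp y
  refine ⟨w, hw1, hw2, ?_⟩
  rw [hyw, polar_add_right, polar_add_right, polar_smul_right, polar_smul_right, polar_comm Q x a,
    polar_comm Q x b, hax, hbx, smul_zero, smul_zero, add_zero, zero_add] at hy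
  rwa [polar_comm]

/-- `Q` takes all values on the orthogonal space of `a, b`. -/
theorem exists_val (c : F) : ∃ w, polar Q a w = 0 ∧ polar Q b w = 0 ∧ Q w = c := by
  have h1 : ∃ w, polar Q a w = 0 ∧ polar Q b w = 0 ∧ Q w ≠ 0 := by
    obtain ⟨x, hx, hax, hbx⟩ := h.more
    obtain ⟨w, haw, hbw, hwx⟩ := h.exists_ne hx hax hbx
    by_contra hcon
    push Not at hcon
    have e1 := hcon x hax hbx
    have e2 := hcon w haw hbw
    have e3 := hcon (w + x) (by rw [polar_add_right, haw, hax, add_zero])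
      (by rw [polar_add_right, hbw, hbx, add_zero])
    rw [Q_add, e1, e2, zero_add, zero_add] at e3
    exact hwx e3
  obtain ⟨w, haw, hbw, hw⟩ := h1
  obtain ⟨y, hy⟩ := h.sq (c * (Q w)⁻¹)
  refine ⟨y • w, ?_, ?_, ?_⟩
  · rw [polar_smul_right, haw, smul_zero]
  · rw [polar_smul_right, hbw, smul_zero]
  · rw [QuadraticMap.map_smul, smul_eq_mul, ← pow_two, hy, mul_assoc, inv_mul_cancel₀ hw, mul_one]

theorem symm : Hyp2 Q b a :=
  ⟨h.two, h.sq, h.nd, h.hb, h.ha, h.hba, by
    obtain ⟨w, h1, h2, h3⟩ := h.more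
    exact ⟨w, h1, h3, h2⟩⟩

/-- Step B: a vector of norm one with nonzero `b`-coordinate. -/
theorem stepB {v : V} (hv : Q v = 1) (hav : polar Q a v ≠ 0) :
    ∃ e ∈ E Q, e v = (polar Q a v)⁻¹ • a + polar Q a v • b := by
  obtain ⟨x, hax, hbx, hvx⟩ := h.decomp v
  set β := polar Q a v with hβ
  set α := polar Q b v with hα
  have haw : polar Q a (β⁻¹ • x) = 0 := by rw [polar_smul_right, hax, smul_zero]
  refine ⟨siegel Q a (β⁻¹ • x) h.ha haw, siegel_mem_E _ _, ?_⟩
  rw [siegel_apply_two h.two]
  rw [← hβ]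
  have e1 : ∃ γ : F, v + β • β⁻¹ • x + polar Q (β⁻¹ • x) v • a + (Q (β⁻¹ • x) * β) • a =
      γ • a + β • b := by
    refine ⟨α + polar Q (β⁻¹ • x) v + Q (β⁻¹ • x) * β, ?_⟩
    have e2 : v + β • β⁻¹ • x = α • a + β • b := by
      rw [smul_smul, mul_inv_cancel₀ hav, one_smul]
      nth_rewrite 1 [hvx]
      rw [add_assoc, h.vdbl, add_zero]
    rw [e2]
    module
  obtain ⟨γ, hγ⟩ := e1
  have h3 : Q (γ • a + β • b) = 1 := by
    rw [← hγ, ← hv]
    have h4 := mem_O.1 (siegel_mem_O (Q := Q) h.ha haw) v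
    rw [siegel_apply_two h.two, ← hβ] at h4
    exact h4
  rw [Q_add, QuadraticMap.map_smul, QuadraticMap.map_smul, h.ha, h.hb, polar_smul_left,
    polar_smul_right, h.hab, smul_zero, smul_zero, add_zero, zero_add, smul_eq_mul, smul_eq_mul,
    mul_one] at h3
  rw [hγ, eq_inv_of_mul_eq_one_left h3]

/-- Step A: making the `b`-coordinate nonzero. -/
theorem stepA {v : V} (hv : Q v = 1) : ∃ e ∈ E Q, polar Q a (e v) ≠ 0 := by
  by_cases hβ : polar Q a v = 0
  swap
  · exact ⟨1, (E Q).one_mem, hβ⟩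
  obtain ⟨x, hax, hbx, hvx⟩ := h.decomp v
  rw [hβ, zero_smul, add_zero] at hvx
  set α := polar Q b v with hα
  -- the coefficient of `b` after applying `siegel b w` is `polar w x + α Q w`
  have key : ∀ w, polar Q a w = 0 → polar Q b w = 0 → polar Q w x + Q w * α ≠ 0 →
      ∃ e ∈ E Q, polar Q a (e v) ≠ 0 := by
    intro w haw hbw hne
    refine ⟨siegel Q b w h.hb hbw, siegel_mem_E _ _, ?_⟩
    rw [siegel_apply_two h.two]
    simp only [polar_add_right, polar_smul_right, haw, h.hab, hβ, smul_eq_mul, mul_zero, mul_one]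
    have e1 : polar Q w v = polar Q w x := by
      rw [hvx, polar_add_right, polar_smul_right, polar_comm Q w a, haw, smul_zero, zero_add]
    rw [e1, ← hα]
    simpa using hne
  by_cases hx : x = 0
  · obtain ⟨w, haw, hbw, hw⟩ := h.exists_val 1
    refine key w haw hbw ?_
    rw [hx, polar_zero_right, hw, one_mul, zero_add]
    intro h0
    rw [hx, h0, zero_smul, zero_add] at hvx
    rw [hvx, QuadraticMap.map_zero] at hv
    exact zero_ne_one hv
  · obtain ⟨w, haw, hbw, hwx⟩ := h.exists_ne hx hax hbx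
    by_cases h1 : polar Q w x + Q w * α = 0
    · -- use `w + x`-like modification: try `w' = y • w` or another vector
      by_cases h2 : α = 0
      · rw [h2, mul_zero, add_zero] at h1
        exact absurd h1 hwx
      -- choose `w'` with `Q w' ≠ 0` and use additivity
      by_contra hcon
      have hall : ∀ w, polar Q a w = 0 → polar Q b w = 0 → polar Q w x + Q w * α = 0 := by
        intro w' h3 h4
        by_contra h5
        exact hcon (key w' h3 h4 h5)
      have e1 := hall x hax hbx
      have e2 := hall w haw hbw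
      have e3 := hall (w + x) (by rw [polar_add_right, haw, hax, add_zero])
        (by rw [polar_add_right, hbw, hbx, add_zero])
      rw [polar_add_left, Q_add] at e3
      have e4 : polar Q w x * α = 0 := by linear_combination e3 - e1 - e2
      rcases mul_eq_zero.1 e4 with e5 | e5
      · exact hwx e5
      · exact h2 e5
    · exact key w haw hbw h1

/-- Step C. -/
theorem stepC {β : F} (hβ : β ≠ 0) : ∃ e ∈ E Q, e (β⁻¹ • a + β • b) = a + b := by
  obtain ⟨w, haw, hbw, hw⟩ := h.exists_val (β * (β + 1))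
  -- `siegel b w` changes the coefficient of `b` from `β` to `β + β⁻¹ Q w = 1`
  have h1 : polar Q a (siegel Q b w h.hb hbw (β⁻¹ • a + β • b)) = 1 := by
    rw [siegel_apply_two h.two]
    have e1 : polar Q w a = 0 := by rw [polar_comm, haw]
    have e2 : polar Q w b = 0 := by rw [polar_comm, hbw]
    simp only [polar_add_right, polar_smul_right, haw, h.haa, h.hab, h.hba, h.hbb, e1, e2,
      smul_eq_mul, hw]
    have e3 := mul_inv_cancel₀ hβ
    linear_combination (β + 1) * e3 + β * h.two
  have h2 : Q (β⁻¹ • a + β • b) = 1 := by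
    rw [Q_add, QuadraticMap.map_smul, QuadraticMap.map_smul, h.ha, h.hb, polar_smul_left,
      polar_smul_right, h.hab, smul_zero, smul_zero, add_zero, zero_add, smul_eq_mul, smul_eq_mul,
      mul_one, inv_mul_cancel₀ hβ]
  have h3 : Q (siegel Q b w h.hb hbw (β⁻¹ • a + β • b)) = 1 := by
    rw [mem_O.1 (siegel_mem_O (Q := Q) h.hb hbw), h2]
  obtain ⟨e, he, hev⟩ := h.stepB h3 (by rw [h1]; exact one_ne_zero)
  refine ⟨e * siegel Q b w h.hb hbw, (E Q).mul_mem he (siegel_mem_E _ _), ?_⟩
  show e (siegel Q b w h.hb hbw _) = _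
  rw [hev, h1, inv_one, one_smul, one_smul]

/-- **`E Q` is transitive on the vectors of norm one.** -/
theorem trans_one {v : V} (hv : Q v = 1) : ∃ e ∈ E Q, e v = a + b := by
  obtain ⟨e1, he1, h1⟩ := h.stepA hv
  obtain ⟨e2, he2, h2⟩ := h.stepB (v := e1 v) (by rw [mem_O.1 (E_le_O he1), hv]) h1
  obtain ⟨e3, he3, h3⟩ := h.stepC h1
  refine ⟨e3 * (e2 * e1), (E Q).mul_mem he3 ((E Q).mul_mem he2 he1), ?_⟩
  show e3 (e2 (e1 v)) = _
  rw [h2, h3]

theorem Qab : Q (a + b) = 1 := by rw [Q_add, h.ha, h.hb, h.hab, zero_add, zero_add]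

theorem Qab_ne : Q (a + b) ≠ 0 := by rw [h.Qab]; exact one_ne_zero

/-- **All reflections are congruent modulo `E Q`.** -/
theorem refl_mul_mem {v : V} (hv : Q v ≠ 0) :
    refl Q v hv * refl Q (a + b) h.Qab_ne ∈ E Q := by
  obtain ⟨y, hy⟩ := h.sq (Q v)⁻¹
  have hy0 : y ≠ 0 := by
    rintro rfl
    rw [zero_pow two_ne_zero] at hy
    exact inv_ne_zero hv hy.symm
  have h1 : Q (y • v) = 1 := by
    rw [QuadraticMap.map_smul, smul_eq_mul, ← pow_two, hy, inv_mul_cancel₀ hv]
  have h1' : Q (y • v) ≠ 0 := by rw [h1]; exact one_ne_zero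
  rw [← refl_smul hv hy0 h1']
  obtain ⟨e, he, hev⟩ := h.trans_one h1
  have h2 : Q (e (y • v)) ≠ 0 := by rw [mem_O.1 (E_le_O he)]; exact h1'
  have h3 := refl_conj (E_le_O he) h1' h2
  have h4 : refl Q (e (y • v)) h2 = refl Q (a + b) h.Qab_ne := by
    congr 1
  rw [← h4, ← h3]
  set r := refl Q (y • v) h1' with hr
  have h5 : r * e * r⁻¹ ∈ E Q := conj_mem_E (refl_mem_O h1') he
  have h6 : r⁻¹ = r := refl_inv h1'
  have h7 : r * (e * r * e⁻¹) = (r * e * r⁻¹) * e⁻¹ := by
    rw [h6]; group
  rw [h7]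
  exact (E Q).mul_mem h5 ((E Q).inv_mem he)

/-- **`O Q = E Q ∪ r E Q`.** -/
theorem mem_O_cases [FiniteDimensional F V] {g : V ≃ₗ[F] V} (hg : g ∈ O Q) :
    g ∈ E Q ∨ ∃ e ∈ E Q, g = refl Q (a + b) h.Qab_ne * e := by
  rw [O_eq_closure h.nd] at hg
  set r := refl Q (a + b) h.Qab_ne with hr
  have hrr : r * r = 1 := refl_mul_self _
  have hrO : r ∈ O Q := refl_mem_O _
  have hri : r⁻¹ = r := refl_inv _
  induction hg using Subgroup.closure_induction with
  | mem x hx =>
    rcases hx with hx | hx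
    · obtain ⟨v, hv, rfl⟩ := hx
      right
      have h1 := h.refl_mul_mem hv
      rw [← hr] at h1
      have h2 := conj_mem_E hrO h1
      refine ⟨_, h2, ?_⟩
      rw [hri]
      have : r * (r * (refl Q v hv * r) * r) = (r * r) * refl Q v hv * (r * r) := by group
      rw [this, hrr, one_mul, mul_one]
    · exact Or.inl (Subgroup.subset_closure hx)
  | one => exact Or.inl (E Q).one_mem
  | mul x y _ _ hx hy =>
    have hconj : ∀ e ∈ E Q, r * e * r ∈ E Q := by
      intro e he
      have := conj_mem_E hrO he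
      rwa [hri] at this
    rcases hx with hx | ⟨e, he, rfl⟩ <;> rcases hy with hy | ⟨e', he', rfl⟩
    · exact Or.inl ((E Q).mul_mem hx hy)
    · right
      refine ⟨r * x * r * e', (E Q).mul_mem (hconj x hx) he', ?_⟩
      have : r * (r * x * r * e') = (r * r) * x * (r * e') := by group
      rw [this, hrr, one_mul]
    · right
      exact ⟨e * y, (E Q).mul_mem he hy, by group⟩
    · left
      have : r * e * (r * e') = (r * e * r) * e' := by group
      rw [this]
      exact (E Q).mul_mem (hconj e he) he'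
  | inv x _ hx =>
    rcases hx with hx | ⟨e, he, rfl⟩
    · exact Or.inl ((E Q).inv_mem hx)
    · right
      have h1 := conj_mem_E hrO ((E Q).inv_mem he)
      refine ⟨_, h1, ?_⟩
      rw [hri, mul_inv_rev, hri]
      have : r * (r * e⁻¹ * r) = (r * r) * e⁻¹ * r := by group
      rw [this, hrr, one_mul]

/-- **Subgroups between `E Q` and `O Q`.** -/
theorem between [FiniteDimensional F V] (L : Subgroup (V ≃ₗ[F] V)) (h1 : E Q ≤ L) (h2 : L ≤ O Q) :
    L = O Q ∨ ∀ g, g ∈ L ↔ (g ∈ O Q ∧ Even (finrank F (fix g) + finrank F V)) := by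
  by_cases hr : refl Q (a + b) h.Qab_ne ∈ L
  · left
    refine le_antisymm h2 fun g hg => ?_
    rcases h.mem_O_cases hg with h3 | ⟨e, he, rfl⟩
    · exact h1 h3
    · exact L.mul_mem hr (h1 he)
  · right
    intro g
    constructor
    · intro hg
      refine ⟨h2 hg, ?_⟩
      rcases h.mem_O_cases (h2 hg) with h3 | ⟨e, he, rfl⟩
      · exact even_E h.nd h3
      · exfalso
        apply hr
        have := L.mul_mem hg (L.inv_mem (h1 he))
        rwa [mul_assoc, mul_inv_cancel, mul_one] at this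
    · rintro ⟨hg, hev⟩
      rcases h.mem_O_cases hg with h3 | ⟨e, he, rfl⟩
      · exact h1 h3
      · exact absurd hev (odd_refl_E h.nd he _)

end Hyp2

end Cfsg.Agent.H890.SpParity
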